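import Cfsg.Agent.H320.SD.ChiefOf

/-!
# `Chief c D X` from codimensions with a small exceptional set (helper331, for helper795's Suz row of S4908)

* `countB` : the count with a small bad set `B`;
* `chief_of_mod` : the module form of `Chief`;
* `chief_of_codimB` : `Chief` from `countB`;
* `pairs_orbit`, `pairs_orbit2` : commuting pairs whose first member is an automorphic image of `r` (or `r'`).
-/

set_option autoImplicit false
set_option linter.unusedSectionVars false

namespace Cfsg.Agent.H331.S8

open Cfsg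
open Cfsg.Agent.H320.SD

universe u v

section Count

variable {X : Type v} [Group X] [Finite X] {A : Type u} [AddCommGroup A] [DistribMulAction X A] [Finite A]

/-- the count with a bad set -/
theorem countB {c K m q q' : ℕ} (hc : 1 ≤ c) (hk : Nat.card (ConjClasses X) ≤ K) (B : Set X)
    (hB : Nat.card {p : X × X // p.1 ∈ B ∧ Commute p.1 p.2} ≤ m * Nat.card X)
    (hlt : c * (q * q' + K * q' * Nat.card X + (m + 1) * q * Nat.card X) < q * q' * Nat.card X)
    (hcod : ∀ z : X, z ≠ 1 → z ∉ B → q ≤ (fx A z).index) (hcod' : ∀ z : X, z ≠ 1 → z ∈ B → q' ≤ (fx A z).index)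
    (hT : ∀ x : A, x ≠ 0 → Nat.card X ≤
      c * (Nat.card (MulAction.stabilizer X x) * Nat.card (ConjClasses (MulAction.stabilizer X x)))) : False := by
  classical
  have := Fintype.ofFinite X
  have := Fintype.ofFinite A
  set n := Nat.card X with hn
  set a := Nat.card A with ha
  have ha0 : 0 < a := Nat.card_pos
  have hn0 : 0 < n := Nat.card_pos
  have hk0 : 0 < Nat.card (ConjClasses X) := by
    have : Finite (ConjClasses X) := Quotient.finite _
    exact Nat.card_pos
  set S := ∑ x : A, Nat.card {p : X × X // p.1 • x = x ∧ p.2 • x = x ∧ Commute p.1 p.2} with hS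
  have h1 : S = ∑ p : X × X, Nat.card {x : A // p.1 • x = x ∧ p.2 • x = x ∧ Commute p.1 p.2} := by
    rw [hS]
    simp only [Nat.card_eq_fintype_card, Fintype.card_subtype, Finset.card_filter]
    exact Finset.sum_comm
  -- lower bound
  have h2 : a * n ≤ c * S := by
    rw [hS, Finset.mul_sum]
    have h3 : ∀ x : A, n ≤ c * Nat.card {p : X × X // p.1 • x = x ∧ p.2 • x = x ∧ Commute p.1 p.2} := by
      intro x
      by_cases hx : x = 0
      · subst hx
        rw [card_pairs_zero, ← hn]
        calc n = 1 * (1 * n) := by ring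
          _ ≤ c * (Nat.card (ConjClasses X) * n) := Nat.mul_le_mul hc (Nat.mul_le_mul_right _ hk0)
      · rw [card_pairs, mul_comm (Nat.card (ConjClasses _))]
        exact hT x hx
    calc a * n = ∑ _x : A, n := by rw [Finset.sum_const, Finset.card_univ, smul_eq_mul, ha, Nat.card_eq_fintype_card]
      _ ≤ _ := Finset.sum_le_sum fun x _ => h3 x
  -- upper bound
  have h4 : q * q' * S ≤ q * q' * a + Nat.card (ConjClasses X) * n * (q' * a) + m * n * (q * a) + n * (q * a) := by
    rw [h1, Finset.mul_sum]
    have h5 : ∀ p : X × X, q * q' * Nat.card {x : A // p.1 • x = x ∧ p.2 • x = x ∧ Commute p.1 p.2} ≤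
        (if p = (1, 1) then q * q' * a else 0) + (if Commute p.1 p.2 then q' * a else 0) +
          (if p.1 ∈ B ∧ Commute p.1 p.2 then q * a else 0) + (if p.1 = 1 then q * a else 0) := by
      intro p
      set f := Nat.card {x : A // p.1 • x = x ∧ p.2 • x = x ∧ Commute p.1 p.2} with hf
      by_cases hp : p = (1, 1)
      · rw [if_pos hp]
        have h6 : f ≤ a := Nat.card_le_card_of_injective _ Subtype.val_injective
        calc q * q' * f ≤ q * q' * a := Nat.mul_le_mul_left _ h6
          _ ≤ _ := by
            rw [add_assoc, add_assoc]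
            exact Nat.le_add_right _ _
      · rw [if_neg hp, zero_add]
        by_cases hcm : Commute p.1 p.2
        · rw [if_pos hcm]
          have e1 : f ≤ Nat.card (fx A p.1) :=
            Nat.card_le_card_of_injective (fun x => (⟨x.1, x.2.1⟩ : fx A p.1)) fun x y hxy =>
              Subtype.ext (congrArg (fun w : fx A p.1 => (w : A)) hxy)
          have e2 : f ≤ Nat.card (fx A p.2) :=
            Nat.card_le_card_of_injective (fun x => (⟨x.1, x.2.2.1⟩ : fx A p.2)) fun x y hxy =>
              Subtype.ext (congrArg (fun w : fx A p.2 => (w : A)) hxy)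
          have k1 : ∀ (z : X) (w : ℕ), w ≤ (fx A z).index → f ≤ Nat.card (fx A z) → w * f ≤ a := by
            intro z w hw hz
            have h6 := AddSubgroup.card_mul_index (fx A z)
            calc w * f ≤ (fx A z).index * Nat.card (fx A z) := Nat.mul_le_mul hw hz
              _ = a := by rw [mul_comm, h6]
          by_cases h : p.1 = 1
          · rw [if_pos h]
            have hp2 : p.2 ≠ 1 := fun h' => hp (Prod.ext h h')
            by_cases hb : p.2 ∈ B
            · have := k1 p.2 q' (hcod' p.2 hp2 hb) e2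
              calc q * q' * f = q * (q' * f) := by ring
                _ ≤ q * a := Nat.mul_le_mul_left _ this
                _ ≤ _ := Nat.le_add_left _ _
            · have := k1 p.2 q (hcod p.2 hp2 hb) e2
              calc q * q' * f = q' * (q * f) := by ring
                _ ≤ q' * a := Nat.mul_le_mul_left _ this
                _ ≤ _ := by
                  rw [add_assoc]
                  exact Nat.le_add_right _ _
          · by_cases hb : p.1 ∈ B
            · rw [if_pos (⟨hb, hcm⟩ : p.1 ∈ B ∧ Commute p.1 p.2)]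
              have := k1 p.1 q' (hcod' p.1 h hb) e1
              calc q * q' * f = q * (q' * f) := by ring
                _ ≤ q * a := Nat.mul_le_mul_left _ this
                _ ≤ q' * a + q * a := Nat.le_add_left _ _
                _ ≤ _ := Nat.le_add_right _ _
            · have := k1 p.1 q (hcod p.1 h hb) e1
              calc q * q' * f = q' * (q * f) := by ring
                _ ≤ q' * a := Nat.mul_le_mul_left _ this
                _ ≤ _ := by
                  rw [add_assoc]
                  exact Nat.le_add_right _ _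
        · have : IsEmpty {x : A // p.1 • x = x ∧ p.2 • x = x ∧ Commute p.1 p.2} := ⟨fun x => hcm x.2.2.2⟩
          rw [hf, Nat.card_of_isEmpty, mul_zero]
          exact Nat.zero_le _
    refine (Finset.sum_le_sum fun p _ => h5 p).trans ?_
    rw [Finset.sum_add_distrib, Finset.sum_add_distrib, Finset.sum_add_distrib,
      Finset.sum_ite_eq' Finset.univ ((1, 1) : X × X), if_pos (Finset.mem_univ _)]
    have s1 : ∑ p : X × X, (if Commute p.1 p.2 then q' * a else 0) = Nat.card (ConjClasses X) * n * (q' * a) := by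
      rw [← Finset.sum_filter, Finset.sum_const, smul_eq_mul, hn, ← card_comm_eq_card_conjClasses_mul_card,
        Nat.card_eq_fintype_card, Fintype.card_subtype]
    have s2 : ∑ p : X × X, (if p.1 ∈ B ∧ Commute p.1 p.2 then q * a else 0) ≤ m * n * (q * a) := by
      rw [← Finset.sum_filter, Finset.sum_const, smul_eq_mul]
      refine Nat.mul_le_mul_right _ ?_
      rw [Nat.card_eq_fintype_card, Fintype.card_subtype] at hB
      exact hB
    have s3 : ∑ p : X × X, (if p.1 = 1 then q * a else 0) ≤ n * (q * a) := by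
      rw [← Finset.sum_filter, Finset.sum_const, smul_eq_mul]
      refine Nat.mul_le_mul_right _ ?_
      rw [hn, Nat.card_eq_fintype_card, ← Fintype.card_subtype]
      exact Fintype.card_le_of_injective (fun p : {p : X × X // p.1 = 1} => p.1.2) fun x y hxy =>
        Subtype.ext (Prod.ext (x.2.trans y.2.symm) hxy)
    rw [s1]
    exact Nat.add_le_add (Nat.add_le_add le_rfl s2) s3
  have h7 : a * (q * q' * n) ≤ a * (c * (q * q' + K * q' * n + (m + 1) * q * n)) := by
    calc a * (q * q' * n) = q * q' * (a * n) := by ring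
      _ ≤ q * q' * (c * S) := Nat.mul_le_mul_left _ h2
      _ = c * (q * q' * S) := by ring
      _ ≤ c * (q * q' * a + Nat.card (ConjClasses X) * n * (q' * a) + m * n * (q * a) + n * (q * a)) :=
        Nat.mul_le_mul_left _ h4
      _ ≤ c * (q * q' * a + K * n * (q' * a) + m * n * (q * a) + n * (q * a)) := by gcongr
      _ = a * (c * (q * q' + K * q' * n + (m + 1) * q * n)) := by ring
  exact absurd (Nat.le_of_mul_le_mul_left h7 ha0) (not_le.2 hlt)

end Count

open Cfsg.Agent.H704.S8 in
/-- `Chief` in module form -/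
theorem chief_of_mod {X : Type v} [Group X] [Finite X] {c : ℕ} (D : Set ℕ)
    (H : ∀ (A : Type u) [AddCommGroup A] [Finite A] [DistribMulAction X A] (r : ℕ), r.Prime →
      (∀ x : A, r • x = 0) → (∀ x : A, (∀ g : X, g • x = x) → x = 0) → Nontrivial A →
      (∀ x : A, x ≠ 0 → Nat.card X ≤
        c * (Nat.card (MulAction.stabilizer X x) * Nat.card (ConjClasses (MulAction.stabilizer X x)))) → False) :
    Chief.{u} c D X := by
  intro Λ _ _ ρ h
  by_contra hne
  push Not at hne
  obtain ⟨x0, hx0⟩ := hne
  have hnt : Nontrivial Λ := ⟨x0, 1, hx0⟩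
  obtain ⟨r, hr, hdvd⟩ := Nat.exists_prime_and_dvd (Finite.one_lt_card (α := Λ)).ne'
  have : Fact r.Prime := ⟨hr⟩
  obtain ⟨y, hy⟩ := exists_prime_orderOf_dvd_card' r hdvd
  let S : Subgroup Λ := (powMonoidHom r : Λ →* Λ).ker
  have hS : ∀ x : Λ, x ∈ S ↔ x ^ r = 1 := fun x => Iff.rfl
  have hρ : ∀ (g : X) (x : Λ), x ∈ S → ρ g x ∈ S := by
    intro g x hx
    rw [hS, ← map_pow, (hS x).1 hx, map_one]
  let act : DistribMulAction X (Additive S) :=
    { smul := fun g a => Additive.ofMul ⟨ρ g (Additive.toMul a : S), hρ g _ (Additive.toMul a : S).2⟩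
      one_smul := fun a => by
        apply Additive.toMul.injective
        apply Subtype.ext
        show ρ 1 (Additive.toMul a : S) = _
        rw [map_one]; rfl
      mul_smul := fun g g' a => by
        apply Additive.toMul.injective
        apply Subtype.ext
        show ρ (g * g') (Additive.toMul a : S) = ρ g (ρ g' (Additive.toMul a : S))
        rw [map_mul]; rfl
      smul_zero := fun g => by
        apply Additive.toMul.injective
        apply Subtype.ext
        show ρ g 1 = 1
        rw [map_one]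
      smul_add := fun g a b => by
        apply Additive.toMul.injective
        apply Subtype.ext
        show ρ g ((Additive.toMul a : S) * (Additive.toMul b : S)) = ρ g _ * ρ g _
        rw [map_mul] }
  have hval : ∀ (g : X) (a : Additive S), ((Additive.toMul (g • a) : S) : Λ) = ρ g (Additive.toMul a : S) := fun _ _ => rfl
  have hfix : ∀ (g : X) (a : Additive S), g • a = a ↔ ρ g ((Additive.toMul a : S) : Λ) = (Additive.toMul a : S) := by
    intro g a
    constructor
    · intro h1
      rw [← hval, h1]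
    · intro h1
      apply Additive.toMul.injective
      apply Subtype.ext
      rw [hval, h1]
  have hne0 : ∀ a : Additive S, a ≠ 0 → ((Additive.toMul a : S) : Λ) ≠ 1 := by
    intro a ha h1
    apply ha
    apply Additive.toMul.injective
    apply Subtype.ext
    exact h1
  have hA : Nontrivial (Additive S) := by
    refine ⟨Additive.ofMul ⟨y, (hS y).2 (by rw [← hy]; exact pow_orderOf_eq_one y)⟩, 0, ?_⟩
    intro h1
    have h2 : y = 1 := congrArg (fun a : Additive S => ((Additive.toMul a : S) : Λ)) h1
    rw [h2, orderOf_one] at hy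
    exact hr.one_lt.ne hy
  have hT : ∀ x : Additive S, x ≠ 0 → MulAction.stabilizer X x ≠ ⊤ ∧ Nat.card X ≤
      c * (Nat.card (MulAction.stabilizer X x) * Nat.card (ConjClasses (MulAction.stabilizer X x))) := by
    intro x hx
    obtain ⟨T, hT, hTt, hcard, -⟩ := h _ (hne0 x hx)
    have e : T = MulAction.stabilizer X x := by
      ext g
      rw [hT, MulAction.mem_stabilizer_iff, hfix]
    subst e
    exact ⟨hTt, hcard.le⟩
  refine H (Additive S) r hr ?_ ?_ hA fun x hx => (hT x hx).2
  · intro x
    apply Additive.toMul.injective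
    apply Subtype.ext
    exact (hS _).1 (Additive.toMul x : S).2
  · intro x hx
    by_contra hx0
    apply (hT x hx0).1
    rw [eq_top_iff]
    intro g _
    exact hx g

open Cfsg.Agent.H704.S8 in
/-- **`Chief` from codimensions, with a small bad set.** -/
theorem chief_of_codimB {X : Type v} [Group X] [Finite X] {c K m : ℕ} (D : Set ℕ) (hc : 1 ≤ c)
    (hk : Nat.card (ConjClasses X) ≤ K) (B : Set X)
    (hB : Nat.card {p : X × X // p.1 ∈ B ∧ Commute p.1 p.2} ≤ m * Nat.card X)
    (hcod : ∀ (A : Type u) [AddCommGroup A] [Finite A] [DistribMulAction X A] (r : ℕ), r.Prime → (∀ x : A, r • x = 0) →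
      (∀ x : A, (∀ g : X, g • x = x) → x = 0) → Nontrivial A →
      ∃ q q' : ℕ, c * (q * q' + K * q' * Nat.card X + (m + 1) * q * Nat.card X) < q * q' * Nat.card X ∧
        (∀ z : X, z ≠ 1 → z ∉ B → q ≤ (fx A z).index) ∧ (∀ z : X, z ≠ 1 → z ∈ B → q' ≤ (fx A z).index)) :
    Chief.{u} c D X := by
  refine chief_of_mod D fun A _ _ _ r hr hr0 hf hA hT => ?_
  obtain ⟨q, q', hlt, h1, h2⟩ := hcod A r hr hr0 hf hA
  exact countB hc hk B hB hlt h1 h2 hT

/-- commuting pairs with first member an automorphic image of `r` -/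
theorem pairs_orbit {G : Type v} [Group G] [Finite G] (r : G) :
    Nat.card {p : G × G // (∃ α : MulAut G, p.1 = α r) ∧ Commute p.1 p.2} ≤
      (MulAut.conj : G →* MulAut G).range.index * Nat.card G := by
  classical
  let I : Subgroup (MulAut G) := (MulAut.conj : G →* MulAut G).range
  let C : Subgroup G := Subgroup.centralizer {r}
  have hfin : Finite (MulAut G ⧸ I) := inferInstance
  have hcomm : ∀ (b h : G), h ∈ C → Commute (b * r * b⁻¹) (b * h * b⁻¹) := by
    intro b h hh
    have h1 : h * r = r * h := Subgroup.mem_centralizer_singleton_iff.1 hh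
    show b * r * b⁻¹ * (b * h * b⁻¹) = b * h * b⁻¹ * (b * r * b⁻¹)
    calc b * r * b⁻¹ * (b * h * b⁻¹) = b * (r * h) * b⁻¹ := by group
      _ = b * (h * r) * b⁻¹ := by rw [h1]
      _ = b * h * b⁻¹ * (b * r * b⁻¹) := by group
  let F : (MulAut G ⧸ I) × (G ⧸ C) × C → {p : G × G // (∃ α : MulAut G, p.1 = α r) ∧ Commute p.1 p.2} := fun x =>
    ⟨(x.1.out (x.2.1.out * r * x.2.1.out⁻¹), x.1.out (x.2.1.out * (x.2.2 : G) * x.2.1.out⁻¹)),
      ⟨x.1.out * MulAut.conj x.2.1.out, by rw [MulAut.mul_apply, MulAut.conj_apply]⟩,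
      (hcomm _ _ x.2.2.2).map (x.1.out : G ≃* G)⟩
  have hF : Function.Surjective F := by
    rintro ⟨⟨g, h⟩, ⟨α, hα⟩, hc⟩
    change g = α r at hα
    change Commute g h at hc
    have h2 : ((α : MulAut G ⧸ I).out : MulAut G)⁻¹ * α ∈ I := QuotientGroup.eq.1 (QuotientGroup.out_eq' _)
    obtain ⟨b, hb⟩ := h2
    have h3 : α = (α : MulAut G ⧸ I).out * MulAut.conj b := by rw [hb, mul_inv_cancel_left]
    set β : MulAut G := (α : MulAut G ⧸ I).out with hβ
    set b' : G := ((b : G) : G ⧸ C).out with hb'
    have h4 : b'⁻¹ * b ∈ C := QuotientGroup.eq.1 (QuotientGroup.out_eq' _)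
    have h5 : b * r * b⁻¹ = b' * r * b'⁻¹ := by
      have h6 : b'⁻¹ * b * r = r * (b'⁻¹ * b) := Subgroup.mem_centralizer_singleton_iff.1 h4
      calc b * r * b⁻¹ = b' * (b'⁻¹ * b * r) * b⁻¹ := by group
        _ = b' * (r * (b'⁻¹ * b)) * b⁻¹ := by rw [h6]
        _ = b' * r * b'⁻¹ := by group
    have h7 : g = β (b' * r * b'⁻¹) := by
      rw [hα, ← h5]
      have := DFunLike.congr_fun h3 r
      rw [MulAut.mul_apply, MulAut.conj_apply] at this
      exact this
    have h8 : b'⁻¹ * β⁻¹ h * b' ∈ C := by
      rw [Subgroup.mem_centralizer_singleton_iff]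
      have h9 : Commute (β⁻¹ g) (β⁻¹ h) := hc.map (β⁻¹ : G ≃* G)
      have h10 : β⁻¹ g = b' * r * b'⁻¹ := by rw [h7, MulAut.inv_apply_self]
      rw [h10] at h9
      have h11 : b' * r * b'⁻¹ * β⁻¹ h = β⁻¹ h * (b' * r * b'⁻¹) := h9
      calc b'⁻¹ * β⁻¹ h * b' * r = b'⁻¹ * (β⁻¹ h * (b' * r * b'⁻¹)) * b' := by group
        _ = b'⁻¹ * (b' * r * b'⁻¹ * β⁻¹ h) * b' := by rw [h11]
        _ = r * (b'⁻¹ * β⁻¹ h * b') := by group
    refine ⟨((α : MulAut G ⧸ I), ((b : G) : G ⧸ C), ⟨_, h8⟩), ?_⟩
    apply Subtype.ext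
    apply Prod.ext
    · exact h7.symm
    · show β (b' * (b'⁻¹ * β⁻¹ h * b') * b'⁻¹) = h
      have h12 : b' * (b'⁻¹ * β⁻¹ h * b') * b'⁻¹ = β⁻¹ h := by group
      rw [h12, MulAut.apply_inv_self]
  calc _ ≤ Nat.card ((MulAut G ⧸ I) × (G ⧸ C) × C) := Nat.card_le_card_of_surjective F hF
    _ = I.index * Nat.card G := by
      rw [Nat.card_prod, Nat.card_prod, ← Subgroup.index, ← Subgroup.index, mul_comm C.index,
        Subgroup.card_mul_index]

/-- commuting pairs with first member an automorphic image of `r` or of `r'` -/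
theorem pairs_orbit2 {G : Type v} [Group G] [Finite G] (r r' : G) {k : ℕ}
    (hI : (MulAut.conj : G →* MulAut G).range.index ≤ k) :
    Nat.card {p : G × G // p.1 ∈ {g : G | (∃ α : MulAut G, g = α r) ∨ ∃ α : MulAut G, g = α r'} ∧ Commute p.1 p.2} ≤
      2 * k * Nat.card G := by
  classical
  let F : {p : G × G // p.1 ∈ {g : G | (∃ α : MulAut G, g = α r) ∨ ∃ α : MulAut G, g = α r'} ∧ Commute p.1 p.2} →
      {p : G × G // (∃ α : MulAut G, p.1 = α r) ∧ Commute p.1 p.2} ⊕
        {p : G × G // (∃ α : MulAut G, p.1 = α r') ∧ Commute p.1 p.2} := fun p =>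
    if h : ∃ α : MulAut G, p.1.1 = α r then Sum.inl ⟨p.1, h, p.2.2⟩
    else Sum.inr ⟨p.1, p.2.1.resolve_left h, p.2.2⟩
  have hF : Function.Injective F := by
    intro p p' hpp
    apply Subtype.ext
    simp only [F] at hpp
    split_ifs at hpp with h1 h2 h2
    · have h9 := Sum.inl_injective hpp
      exact (Subtype.ext_iff.1 h9 :)
    · have h9 := Sum.inr_injective hpp
      exact (Subtype.ext_iff.1 h9 :)
  calc _ ≤ _ := Nat.card_le_card_of_injective F hF
    _ = Nat.card {p : G × G // (∃ α : MulAut G, p.1 = α r) ∧ Commute p.1 p.2} +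
        Nat.card {p : G × G // (∃ α : MulAut G, p.1 = α r') ∧ Commute p.1 p.2} := Nat.card_sum
    _ ≤ k * Nat.card G + k * Nat.card G :=
      Nat.add_le_add ((pairs_orbit r).trans (Nat.mul_le_mul_right _ hI)) ((pairs_orbit r').trans (Nat.mul_le_mul_right _ hI))
    _ = 2 * k * Nat.card G := by ring

end Cfsg.Agent.H331.S8
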